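import Mathlib
import Groth.Agent.IdealStalkLib.Comap
import Groth.Prelude.Def_BlowUp2

/-! Elementary facts about effective Cartier ideals and blow-ups. -/

set_option autoImplicit false
set_option backward.isDefEq.respectTransparency false
set_option backward.defeqAttrib.useBackward true
set_option linter.style.haveILetI false

universe u

open CategoryTheory CategoryTheory.Limits AlgebraicGeometry

namespace Groth.Agent.BlowCompLib

variable {X Y : Scheme.{u}}

theorem isEffCartier_top : BlowUp.IsEffCartierIdeal (⊤ : X.IdealSheafData) := fun x => by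
  obtain ⟨_, ⟨U : X.Opens, hU, rfl⟩, hxU, -⟩ := X.isBasis_affineOpens.exists_subset_of_mem_open (Set.mem_univ x) isOpen_univ
  refine ⟨⟨U, hU⟩, hxU, 1, one_mem _, ?_⟩
  rw [Ideal.span_singleton_one]
  rfl

theorem comap_eq_top (I : X.IdealSheafData) (g : Y ⟶ X) (h : ∀ y, g y ∉ I.support) : I.comap g = ⊤ := by
  rw [← Scheme.IdealSheafData.support_eq_bot_iff, Scheme.IdealSheafData.support_comap]
  ext y
  exact ⟨fun hy => absurd hy (h y), fun hy => hy.elim⟩

/-- A blow-up is an isomorphism off its centre. -/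
theorem isIso_restrict {X' : Scheme.{u}} (I : X.IdealSheafData) (b : X' ⟶ X) (hb : BlowUp.IsBlowUp b I) :
    IsIso (b ∣_ I.support.compl) := by
  let W : X.Opens := I.support.compl
  show IsIso (b ∣_ W)
  have hW : I.comap W.ι = ⊤ := comap_eq_top I _ fun y => y.2
  obtain ⟨s, hs, -⟩ := hb.2 W.toScheme W.ι (by rw [hW]; exact isEffCartier_top)
  have hrange : Set.range s ⊆ Set.range (b ⁻¹ᵁ W).ι := by
    rintro _ ⟨w, rfl⟩
    rw [Scheme.Opens.range_ι]
    show b (s w) ∈ W
    rw [← Scheme.Hom.comp_apply, hs]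
    exact w.2
  let s' := IsOpenImmersion.lift (b ⁻¹ᵁ W).ι s hrange
  have hs' : s' ≫ (b ⁻¹ᵁ W).ι = s := IsOpenImmersion.lift_fac _ _ _
  refine ⟨s', ?_, ?_⟩
  · rw [← cancel_mono (b ⁻¹ᵁ W).ι, Category.assoc, hs', Category.id_comp]
    have h0 : I.comap ((b ⁻¹ᵁ W).ι ≫ b) = ⊤ := comap_eq_top I _ fun y => by
      rw [Scheme.Hom.comp_apply]
      exact y.2
    obtain ⟨t, -, ht⟩ := hb.2 _ ((b ⁻¹ᵁ W).ι ≫ b) (by rw [h0]; exact isEffCartier_top)
    rw [ht _ rfl]
    exact ht _ (by simp only [Category.assoc, hs, morphismRestrict_ι])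
  · rw [← cancel_mono W.ι, Category.assoc, morphismRestrict_ι, ← Category.assoc, hs', Category.id_comp, hs]

end Groth.Agent.BlowCompLib
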