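import Mathlib
import Groth.Agent.BlowCompLib.Basic
import Groth.Agent.RelDivLib.Scheme

/-! Products of effective Cartier ideals and inverse images, for composing blow-ups. -/

set_option autoImplicit false
set_option backward.isDefEq.respectTransparency false
set_option backward.defeqAttrib.useBackward true
set_option linter.style.haveILetI false

universe u

open CategoryTheory CategoryTheory.Limits AlgebraicGeometry

namespace Groth.Agent.BlowCompLib

variable {X Y : Scheme.{u}}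

theorem comap_mul (f : X ⟶ Y) (K₁ K₂ : Y.IdealSheafData) : (K₁ * K₂).comap f = K₁.comap f * K₂.comap f := by
  refine Scheme.IdealSheafData.ext_of_iSup_eq_top (ι := {p : X.affineOpens × Y.affineOpens // p.1.1 ≤ f ⁻¹ᵁ p.2.1})
    (fun p => p.1.1) ?_ fun ⟨⟨⟨V, hV⟩, ⟨U, hU⟩⟩, e⟩ => ?_
  · refine top_le_iff.1 fun x _ => ?_
    obtain ⟨_, ⟨U : Y.Opens, hU, rfl⟩, hxU, -⟩ := Y.isBasis_affineOpens.exists_subset_of_mem_open (Set.mem_univ (f x)) isOpen_univ
    obtain ⟨_, ⟨V : X.Opens, hV, rfl⟩, hxV, e⟩ :=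
      X.isBasis_affineOpens.exists_subset_of_mem_open (show x ∈ f ⁻¹ᵁ U from hxU) (f ⁻¹ᵁ U).2
    exact TopologicalSpace.Opens.mem_iSup.2 ⟨⟨⟨⟨V, hV⟩, ⟨U, hU⟩⟩, e⟩, hxV⟩
  · show ((K₁ * K₂).comap f).ideal ⟨V, hV⟩ = (K₁.comap f * K₂.comap f).ideal ⟨V, hV⟩
    rw [IdealStalkLib.comap_ideal _ f hU hV e, Scheme.IdealSheafData.ideal_mul, Scheme.IdealSheafData.ideal_mul,
      Pi.mul_apply, Pi.mul_apply, IdealStalkLib.comap_ideal _ f hU hV e, IdealStalkLib.comap_ideal _ f hU hV e, Ideal.map_mul]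

theorem exists_principal_of_mul {R : Type u} [CommRing R] {A B : Ideal R} {c : R} (hc : c ∈ nonZeroDivisors R)
    (h : A * B = Ideal.span {c}) (p : Ideal R) [p.IsPrime] :
    ∃ r ∉ p, ∃ a ∈ A, ∀ (T : Type u) [CommRing T] [Algebra R T], IsLocalization.Away r T →
      algebraMap R T a ∈ nonZeroDivisors T ∧ A.map (algebraMap R T) = Ideal.span {algebraMap R T a} := by
  let S : Set R := {r | ∃ a ∈ A, ∃ b ∈ B, a * b = r * c}
  have h1 : ∀ x ∈ A * B, ∃ k ∈ Ideal.span S, x = k * c := fun x hx => by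
    refine Submodule.mul_induction_on hx (fun a ha b hb => ?_) fun u v hu hv => ?_
    · obtain ⟨k, hk⟩ := Ideal.mem_span_singleton.1 (h ▸ Ideal.mul_mem_mul ha hb)
      exact ⟨k, Ideal.subset_span ⟨a, ha, b, hb, hk.trans (mul_comm c k)⟩, hk.trans (mul_comm c k)⟩
    · obtain ⟨k, hk, rfl⟩ := hu
      obtain ⟨l, hl, rfl⟩ := hv
      exact ⟨k + l, add_mem hk hl, (add_mul k l c).symm⟩
  obtain ⟨k, hk, hkc⟩ := h1 c (h ▸ Ideal.mem_span_singleton_self c)
  have hk1 : k = 1 := (mul_cancel_right_mem_nonZeroDivisors hc).1 (hkc.symm.trans (one_mul c).symm)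
  obtain ⟨r, ⟨a, ha, b, hb, hab⟩, hrp⟩ := Set.not_subset.1 fun hS : S ⊆ p =>
    (inferInstance : p.IsPrime).ne_top ((Ideal.eq_top_iff_one p).2 (hk1 ▸ Ideal.span_le.2 hS hk))
  refine ⟨r, hrp, a, ha, fun T _ _ hT => ?_⟩
  haveI := hT
  have hr : IsUnit (algebraMap R T r) := IsLocalization.Away.algebraMap_isUnit r
  have hcT : algebraMap R T c ∈ nonZeroDivisors T :=
    IsLocalization.map_nonZeroDivisors_le (Submonoid.powers r) T ⟨c, hc, rfl⟩
  refine ⟨?_, le_antisymm (Ideal.map_le_iff_le_comap.2 fun x hx => ?_) ((Ideal.span_singleton_le_iff_mem _).2 (Ideal.mem_map_of_mem _ ha))⟩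
  · refine (mul_mem_nonZeroDivisors.1 (?_ : algebraMap R T a * algebraMap R T b ∈ _)).1
    rw [← map_mul, hab, map_mul]
    exact mul_mem hr.mem_nonZeroDivisors hcT
  · obtain ⟨s, hs⟩ := Ideal.mem_span_singleton.1 (h ▸ Ideal.mul_mem_mul hx hb)
    have h2 : x * r = a * s := (mul_cancel_right_mem_nonZeroDivisors hc).1 (by
      rw [mul_assoc, ← hab, mul_left_comm, hs]
      ring)
    exact (Ideal.mul_unit_mem_iff_mem _ hr).1 (Ideal.mem_span_singleton.2 ⟨algebraMap R T s, by rw [← map_mul, h2, map_mul]⟩)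

theorem isEffCartier_of_mul {A B : X.IdealSheafData} (h : BlowUp.IsEffCartierIdeal (A * B)) :
    BlowUp.IsEffCartierIdeal A := fun x => by
  obtain ⟨U, hxU, c, hc, hI⟩ := h x
  rw [Scheme.IdealSheafData.ideal_mul, Pi.mul_apply] at hI
  obtain ⟨r, hr, a, -, ha⟩ := exists_principal_of_mul hc hI (U.2.primeIdealOf ⟨x, hxU⟩).asIdeal
  letI : Algebra Γ(X, U.1) Γ(X, X.basicOpen r) := (X.presheaf.map (homOfLE (X.basicOpen_le r)).op).hom.toAlgebra
  obtain ⟨h1, h2⟩ := ha Γ(X, X.basicOpen r) (U.2.isLocalization_basicOpen r)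
  refine ⟨X.affineBasicOpen (U := U) r, ?_, _, h1, ?_⟩
  · letI := TopCat.Presheaf.algebra_section_stalk X.presheaf ⟨x, hxU⟩
    haveI := U.2.isLocalization_stalk ⟨x, hxU⟩
    exact (X.mem_basicOpen r x hxU).2
      ((IsLocalization.AtPrime.isUnit_to_map_iff (X.presheaf.stalk x) (U.2.primeIdealOf ⟨x, hxU⟩).asIdeal r).2 hr)
  · exact (A.map_ideal_basicOpen U r).symm.trans h2

theorem isEffCartier_mul {A B : X.IdealSheafData} (hA : BlowUp.IsEffCartierIdeal A) (hB : BlowUp.IsEffCartierIdeal B) :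
    BlowUp.IsEffCartierIdeal (A * B) := fun x => by
  obtain ⟨W, V, -, hx, ⟨a, ha, hAa⟩, b, hb, hBb⟩ := RelDivLib.exists_common_chart (𝟙 X) hA hB x
  refine ⟨V, hx, a * b, mul_mem ha hb, ?_⟩
  rw [Scheme.IdealSheafData.ideal_mul, Pi.mul_apply, hAa, hBb, Ideal.span_singleton_mul_span_singleton]

/-- The inverse image of an effective Cartier ideal under an open immersion is effective Cartier. -/
theorem isEffCartier_comap_openImmersion {D : Y.IdealSheafData} (hD : BlowUp.IsEffCartierIdeal D) (f : X ⟶ Y)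
    [IsOpenImmersion f] : BlowUp.IsEffCartierIdeal (D.comap f) := fun x => by
  obtain ⟨U, hxU, g, hg, hI⟩ := hD (f x)
  obtain ⟨t, htle, hxt⟩ := U.2.exists_basicOpen_le (V := U.1 ⊓ f.opensRange) ⟨f x, hxU, x, rfl⟩ hxU
  obtain ⟨g', hg', hI'⟩ := RelDivLib.generator_res D U t hg hI
  have hsub : Y.basicOpen t ≤ f.opensRange := htle.trans inf_le_right
  have hV : IsAffineOpen (f ⁻¹ᵁ Y.basicOpen t) := (U.2.basicOpen t).preimage_of_isOpenImmersion f hsub
  haveI : IsIso (f.app (Y.basicOpen t)) := f.isIso_app _ hsub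
  refine ⟨⟨_, hV⟩, hxt, (f.app (Y.basicOpen t)).hom g', ?_, ?_⟩
  · exact MulEquivClass.map_nonZeroDivisors (asIso (f.app (Y.basicOpen t))).commRingCatIsoToRingEquiv ▸ ⟨g', hg', rfl⟩
  · rw [IdealStalkLib.comap_ideal D f (U.2.basicOpen t) hV le_rfl, ← Scheme.Hom.app_eq_appLE]
    show (D.ideal (Y.affineBasicOpen (U := U) t)).map _ = _
    rw [hI', Ideal.map_span, Set.image_singleton]
    rfl

/-- A locally principal ideal that is effective Cartier on a schematically dense part is effective Cartier. -/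
theorem isEffCartier_of_dense (K : Y.IdealSheafData) (ι : X ⟶ Y) [IsSchemeTheoreticallyDominant ι] [QuasiCompact ι]
    (hK : ∀ y : Y, ∃ V : Y.affineOpens, y ∈ V.1 ∧ ∃ a, K.ideal V = Ideal.span {a})
    (hι : BlowUp.IsEffCartierIdeal (K.comap ι)) : BlowUp.IsEffCartierIdeal K := fun y => by
  obtain ⟨V, hyV, a, ha⟩ := hK y
  refine ⟨V, hyV, a, mem_nonZeroDivisors_iff_right.2 fun z hz => ι.app_injective V.1 ?_, ha⟩
  rw [map_zero]
  refine X.IsSheaf.section_ext fun x hx => ?_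
  obtain ⟨W, hxW, c, hc, hWc⟩ := hι x
  obtain ⟨t, htle, hxt⟩ := W.2.exists_basicOpen_le (V := W.1 ⊓ ι ⁻¹ᵁ V.1) ⟨x, hxW, hx⟩ hxW
  obtain ⟨c', hc', hWc'⟩ := RelDivLib.generator_res _ W t hc hWc
  have e : X.basicOpen t ≤ ι ⁻¹ᵁ V.1 := htle.trans inf_le_right
  refine ⟨X.basicOpen t, e, hxt, ?_⟩
  rw [map_zero]
  show (ι.app V.1 ≫ X.presheaf.map (homOfLE e).op).hom z = 0
  change (ι.appLE V.1 (X.basicOpen t) e).hom z = 0
  have hmem : c' ∈ Ideal.span {(ι.appLE V.1 (X.basicOpen t) e).hom a} := by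
    rw [← Set.image_singleton, ← Ideal.map_span, ← ha, ← IdealStalkLib.comap_ideal K ι V.2 (W.2.basicOpen t) e]
    show c' ∈ (K.comap ι).ideal (X.affineBasicOpen (U := W) t)
    rw [hWc']
    exact Ideal.mem_span_singleton_self c'
  obtain ⟨s, hs⟩ := Ideal.mem_span_singleton.1 hmem
  refine mem_nonZeroDivisors_iff_right.1 hc' _ ?_
  rw [hs, ← mul_assoc, ← map_mul, hz, map_zero, zero_mul]

end Groth.Agent.BlowCompLib
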