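import Mathlib
import Groth.Agent.BlowCompLib.Compose

/-! Flat inverse images of effective Cartier ideals, and flat base change of blow-ups. -/

set_option autoImplicit false
set_option backward.isDefEq.respectTransparency false
set_option backward.defeqAttrib.useBackward true
set_option linter.style.haveILetI false

universe u

open CategoryTheory CategoryTheory.Limits AlgebraicGeometry

namespace Groth.Agent.BlowCompLib

variable {X Y : Scheme.{u}}

theorem exists_affine_le (f : X ⟶ Y) (x : X) {U : Y.Opens} (hx : f x ∈ U) :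
    ∃ V : X.affineOpens, x ∈ V.1 ∧ V.1 ≤ f ⁻¹ᵁ U := by
  obtain ⟨_, ⟨V : X.Opens, hV, rfl⟩, hxV, hle⟩ :=
    X.isBasis_affineOpens.exists_subset_of_mem_open (show x ∈ f ⁻¹ᵁ U from hx) (f ⁻¹ᵁ U).2
  exact ⟨⟨V, hV⟩, hxV, hle⟩

theorem ideal_comap_span (D : Y.IdealSheafData) (f : X ⟶ Y) {U : Y.affineOpens} {g : Γ(Y, U.1)}
    (hg : D.ideal U = Ideal.span {g}) (V : X.affineOpens) (e : V.1 ≤ f ⁻¹ᵁ U.1) :
    (D.comap f).ideal V = Ideal.span {(f.appLE U.1 V.1 e).hom g} := by
  refine (IdealStalkLib.comap_ideal D f U.2 V.2 e).trans ?_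
  show (D.ideal U).map _ = _
  rw [hg, Ideal.map_span, Set.image_singleton]

/-- The inverse image of an effective Cartier ideal under a flat morphism is effective Cartier. -/
theorem isEffCartier_comap_flat {D : Y.IdealSheafData} (hD : BlowUp.IsEffCartierIdeal D) (f : X ⟶ Y) [Flat f] :
    BlowUp.IsEffCartierIdeal (D.comap f) := fun x => by
  obtain ⟨U, hxU, g, hg, hI⟩ := hD (f x)
  obtain ⟨V, hxV, e⟩ := exists_affine_le f x hxU
  refine ⟨V, hxV, _, ?_, ideal_comap_span D f hI V e⟩
  letI := (f.appLE U.1 V.1 e).hom.toAlgebra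
  haveI : Module.Flat Γ(Y, U.1) Γ(X, V.1) := f.flat_appLE U.2 V.2 e
  have h1 : IsSMulRegular Γ(X, V.1) (algebraMap Γ(Y, U.1) Γ(X, V.1) g) :=
    IsSMulRegular.of_flat (fun a b hab => (mul_cancel_left_mem_nonZeroDivisors hg).1 hab)
  exact mem_nonZeroDivisors_iff_right.2 fun z hz => h1 (by
    show _ * z = _ * 0
    rw [mul_zero, mul_comm]
    exact hz)

end Groth.Agent.BlowCompLib

namespace Groth.Agent.BlowCompLib

variable {X X' : Scheme.{u}}

theorem isOpenImmersion_off_exceptional (I : X.IdealSheafData) (b : X' ⟶ X) (hb : BlowUp.IsBlowUp b I) :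
    IsOpenImmersion ((Scheme.Opens.ι (X := X') (I.comap b).support.compl) ≫ b) := by
  let U : X'.Opens := (I.comap b).support.compl
  let W : X.Opens := I.support.compl
  have hle : U ≤ b ⁻¹ᵁ W := fun y hy => by
    show b y ∉ I.support
    intro h
    refine (show y ∉ (I.comap b).support from hy) ?_
    rw [Scheme.IdealSheafData.support_comap]
    exact h
  haveI : IsIso (b ∣_ W) := isIso_restrict I b hb
  show IsOpenImmersion (U.ι ≫ b)
  rw [← Scheme.homOfLE_ι _ hle, Category.assoc, ← morphismRestrict_ι]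
  infer_instance

theorem isEffCartier_comap_of_blowUp (I : X.IdealSheafData) (b : X' ⟶ X) (hb : BlowUp.IsBlowUp b I)
    {D : X.IdealSheafData} (hD : BlowUp.IsEffCartierIdeal D)
    [IsSchemeTheoreticallyDominant (Scheme.Opens.ι (X := X') (I.comap b).support.compl)]
    [QuasiCompact (Scheme.Opens.ι (X := X') (I.comap b).support.compl)] :
    BlowUp.IsEffCartierIdeal (D.comap b) := by
  refine isEffCartier_of_dense _ (Scheme.Opens.ι (X := X') (I.comap b).support.compl) (fun y => ?_) ?_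
  · obtain ⟨U, hU, a, -, ha⟩ := hD (b y)
    obtain ⟨V, hy, e⟩ := exists_affine_le b y hU
    exact ⟨V, hy, _, ideal_comap_span D b ha V e⟩
  · rw [← Scheme.IdealSheafData.comap_comp]
    haveI := isOpenImmersion_off_exceptional I b hb
    exact isEffCartier_comap_openImmersion hD _

/-- Regular sections pull back to regular sections along a morphism which is an open immersion on a schematically
dense part. -/
theorem germ_mem_nonZeroDivisors_of_dense {U₀ : Scheme.{u}} (ι : U₀ ⟶ X') [IsOpenImmersion ι]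
    [IsSchemeTheoreticallyDominant ι] [QuasiCompact ι] (b : X' ⟶ X) [IsOpenImmersion (ι ≫ b)] (U : X.Opens) (s : Γ(X, U))
    (hs : ∀ (x : X) (hx : x ∈ U), X.presheaf.germ U x hx s ∈ nonZeroDivisors (X.presheaf.stalk x)) (y : X')
    (hy : y ∈ b ⁻¹ᵁ U) : X'.presheaf.germ (b ⁻¹ᵁ U) y hy (b.app U s) ∈ nonZeroDivisors (X'.presheaf.stalk y) := by
  obtain ⟨V, hyV, e⟩ := exists_affine_le b y (show b y ∈ U from hy)
  let s' : Γ(X', V.1) := X'.presheaf.map (homOfLE e).op (b.app U s)
  have hs' : s' ∈ nonZeroDivisors Γ(X', V.1) := mem_nonZeroDivisors_iff_right.2 fun z hz => ι.app_injective V.1 (by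
    rw [map_zero]
    refine TopCat.Presheaf.section_ext U₀.sheaf _ _ _ fun w hw => ?_
    rw [map_zero]
    show U₀.presheaf.germ (ι ⁻¹ᵁ V.1) w hw (ι.app V.1 z) = 0
    rw [← Scheme.Hom.germ_stalkMap_apply ι V.1 w hw z]
    haveI : IsIso (b.stalkMap (ι w) ≫ ι.stalkMap w) := by
      rw [← Scheme.Hom.stalkMap_comp]
      infer_instance
    haveI : IsIso (b.stalkMap (ι w)) := IsIso.of_isIso_comp_right (b.stalkMap (ι w)) (ι.stalkMap w)
    have h1 : X'.presheaf.germ V.1 (ι w) hw s' ∈ nonZeroDivisors (X'.presheaf.stalk (ι w)) := by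
      rw [TopCat.Presheaf.germ_res_apply, ← Scheme.Hom.germ_stalkMap_apply b U (ι w) (e hw) s]
      exact MulEquivClass.map_nonZeroDivisors (asIso (b.stalkMap (ι w))).commRingCatIsoToRingEquiv ▸ ⟨_, hs _ _, rfl⟩
    have h2 : X'.presheaf.germ V.1 (ι w) hw z = 0 := mem_nonZeroDivisors_iff_right.1 h1 _ (by rw [← map_mul, hz, map_zero])
    rw [h2, map_zero])
  letI : Algebra Γ(X', V.1) (X'.presheaf.stalk y) := TopCat.Presheaf.algebra_section_stalk X'.presheaf ⟨y, hyV⟩
  haveI := V.2.isLocalization_stalk ⟨y, hyV⟩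
  have := IsLocalization.map_nonZeroDivisors_le (V.2.primeIdealOf ⟨y, hyV⟩).asIdeal.primeCompl (X'.presheaf.stalk y) ⟨s', hs', rfl⟩
  change X'.presheaf.germ V.1 y hyV s' ∈ _ at this
  rw [TopCat.Presheaf.germ_res_apply] at this
  exact this

end Groth.Agent.BlowCompLib
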