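import Mathlib
import Groth.Agent.BlowCompLib.Flat
import Groth.Agent.S1571

/-! The strict transform of a closed subscheme is its blow-up. -/

set_option autoImplicit false
set_option backward.isDefEq.respectTransparency false
set_option backward.defeqAttrib.useBackward true
set_option linter.style.haveILetI false

universe u

open CategoryTheory CategoryTheory.Limits AlgebraicGeometry

namespace Groth.Agent.BlowCompLib

variable {X Y : Scheme.{u}}

instance toImage_dominant (f : X ⟶ Y) [QuasiCompact f] : IsSchemeTheoreticallyDominant f.toImage := by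
  refine ⟨Scheme.IdealSheafData.ext_of_iSup_eq_top (ι := Y.affineOpens)
    (fun U => ⟨f.imageι ⁻¹ᵁ U.1, U.2.preimage f.imageι⟩) ?_ fun U => ?_⟩
  · refine eq_top_iff.2 fun y _ => ?_
    obtain ⟨_, ⟨U : Y.Opens, hU, rfl⟩, hyU, -⟩ :=
      Y.isBasis_affineOpens.exists_subset_of_mem_open (Set.mem_univ (f.imageι y)) isOpen_univ
    exact TopologicalSpace.Opens.mem_iSup.2 ⟨⟨U, hU⟩, hyU⟩
  · rw [Scheme.Hom.ker_apply, Scheme.IdealSheafData.ideal_bot]
    exact (RingHom.injective_iff_ker_eq_bot _).1 (f.toImage_app_injective U)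

/-- The complement of a locally principal closed subscheme has affine inclusion. -/
theorem isAffineHom_compl (K : X.IdealSheafData)
    (hK : ∀ x : X, ∃ V : X.affineOpens, x ∈ V.1 ∧ ∃ a, K.ideal V = Ideal.span {a}) :
    IsAffineHom (Scheme.Opens.ι (X := X) K.support.compl) := by
  set j := Scheme.Opens.ι (X := X) K.support.compl
  refine isAffineHom_of_forall_exists_isAffineOpen j fun x => ?_
  obtain ⟨V, hxV, a, ha⟩ := hK x
  refine ⟨V.1, hxV, V.2, (Scheme.Hom.isAffineOpen_iff_of_isOpenImmersion j).1 ?_⟩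
  rw [Scheme.Hom.image_preimage_eq_opensRange_inf, Scheme.Opens.opensRange_ι]
  have h : (K.support.compl : X.Opens) ⊓ V.1 = X.basicOpen a := by
    ext y
    constructor
    · rintro ⟨hy, hyV⟩
      by_contra hn
      refine hy ((Scheme.IdealSheafData.mem_support_iff_of_mem hyV).2 ?_)
      rw [ha, Scheme.zeroLocus_span, Scheme.mem_zeroLocus_iff]
      intro g hg
      rw [Set.mem_singleton_iff.1 hg]
      exact hn
    · intro hy
      have hyV : y ∈ V.1 := X.basicOpen_le a hy
      refine ⟨fun hys => ?_, hyV⟩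
      have h1 := (Scheme.IdealSheafData.mem_support_iff_of_mem hyV).1 hys
      rw [ha, Scheme.zeroLocus_span, Scheme.mem_zeroLocus_iff] at h1
      exact h1 a rfl hy
  rw [h]
  exact V.2.basicOpen a

theorem exists_blowUp_closedImmersion {X' : Scheme.{u}} (I : X.IdealSheafData) (f : Y ⟶ X) [IsClosedImmersion f]
    (b : X' ⟶ X) (hb : BlowUp.IsBlowUp b I) :
    ∃ (S : Scheme.{u}) (c : S ⟶ Y) (c' : S ⟶ X'), IsClosedImmersion c' ∧ c' ≫ b = c ≫ f ∧
      BlowUp.IsBlowUp c (I.comap f) := by
  let p := pullback.fst f b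
  let K : (pullback f b).IdealSheafData := (I.comap b).comap (pullback.snd f b)
  have hKp : (I.comap f).comap p = K := by
    rw [← Scheme.IdealSheafData.comap_comp, pullback.condition, Scheme.IdealSheafData.comap_comp]
  have hKl : ∀ x, ∃ V : (pullback f b).affineOpens, x ∈ V.1 ∧ ∃ a, K.ideal V = Ideal.span {a} := fun x => by
    obtain ⟨U, hU, a, -, ha⟩ := hb.1 (pullback.snd f b x)
    obtain ⟨V, hxV, e⟩ := exists_affine_le (pullback.snd f b) x hU
    exact ⟨V, hxV, _, ideal_comap_span (I.comap b) _ ha V e⟩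
  let κ := Scheme.Opens.ι (X := pullback f b) K.support.compl
  haveI : IsAffineHom κ := isAffineHom_compl K hKl
  refine ⟨κ.image, κ.imageι ≫ p, κ.imageι ≫ pullback.snd f b, inferInstance, ?_, ?_, fun T g hg => ?_⟩
  · rw [Category.assoc, Category.assoc, pullback.condition]
  · rw [Scheme.IdealSheafData.comap_comp, hKp]
    refine isEffCartier_of_dense _ κ.toImage (fun y => ?_) ?_
    · obtain ⟨V₀, hV, a, ha⟩ := hKl (κ.imageι y)
      obtain ⟨V, hy, e⟩ := exists_affine_le κ.imageι y hV
      exact ⟨V, hy, _, ideal_comap_span K _ ha V e⟩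
    · rw [← Scheme.IdealSheafData.comap_comp, Scheme.Hom.toImage_imageι, comap_eq_top K κ (fun w => w.2)]
      exact isEffCartier_top
  · obtain ⟨h, hh, huniq⟩ := hb.2 T (g ≫ f) (by rw [Scheme.IdealSheafData.comap_comp]; exact hg)
    let t : T ⟶ pullback f b := pullback.lift g h hh.symm
    have hKt : K.comap t = (I.comap f).comap g := by
      rw [← hKp, ← Scheme.IdealSheafData.comap_comp, pullback.lift_fst]
    obtain ⟨haff, hdom⟩ := S1571.result T ((I.comap f).comap g) hg
    haveI := haff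
    haveI := hdom
    let ιT := Scheme.Opens.ι (X := T) ((I.comap f).comap g).support.compl
    have hrange : Set.range (ιT ≫ t) ⊆ Set.range κ := by
      rintro _ ⟨w, rfl⟩
      rw [Scheme.Opens.range_ι]
      show t (ιT w) ∉ K.support
      intro hw
      refine (show ιT w ∉ ((I.comap f).comap g).support from w.2) ?_
      have hw' : ιT w ∈ (K.comap t).support := by
        rw [Scheme.IdealSheafData.support_comap]
        exact hw
      generalize ιT w = v at hw' ⊢
      exact hKt ▸ hw'
    have hker : κ.imageι.ker ≤ t.ker := by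
      rw [Scheme.Hom.imageι, Scheme.IdealSheafData.ker_subschemeι]
      have h1 : (ιT ≫ t).ker = t.ker := by
        rw [Scheme.Hom.ker_comp, ιT.ker_eq_bot, Scheme.IdealSheafData.map_bot]
      rw [← h1, ← IsOpenImmersion.lift_fac κ (ιT ≫ t) hrange, Scheme.Hom.ker_comp (IsOpenImmersion.lift κ (ιT ≫ t) hrange) κ,
        ← Scheme.IdealSheafData.map_bot κ]
      exact Scheme.IdealSheafData.map_mono _ bot_le
    let s := IsClosedImmersion.lift κ.imageι t hker
    have hs : s ≫ κ.imageι = t := IsClosedImmersion.lift_fac _ _ _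
    refine ⟨s, by show s ≫ κ.imageι ≫ p = g; rw [← Category.assoc, hs, pullback.lift_fst], fun s' hs' => ?_⟩
    rw [← cancel_mono κ.imageι, hs]
    refine pullback.hom_ext ?_ ?_
    · rw [pullback.lift_fst, Category.assoc]
      exact hs'
    · rw [pullback.lift_snd, Category.assoc]
      refine huniq _ ?_
      show (s' ≫ κ.imageι ≫ pullback.snd f b) ≫ b = g ≫ f
      rw [← (show s' ≫ κ.imageι ≫ p = g from hs'), Category.assoc, Category.assoc, Category.assoc, Category.assoc,
        pullback.condition]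

theorem isClosedImmersion_blowUp_map {X' Y' : Scheme.{u}} (I : X.IdealSheafData) (f : Y ⟶ X) [IsClosedImmersion f]
    (b : X' ⟶ X) (hb : BlowUp.IsBlowUp b I) (b' : Y' ⟶ Y) (hb' : BlowUp.IsBlowUp b' (I.comap f))
    (f' : Y' ⟶ X') (hf' : f' ≫ b = b' ≫ f) : IsClosedImmersion f' := by
  obtain ⟨S, c, c', hc', hcc, hcb⟩ := exists_blowUp_closedImmersion I f b hb
  haveI := hc'
  obtain ⟨α, hα, -⟩ := hcb.2 Y' b' hb'.1
  obtain ⟨β, hβ, -⟩ := hb'.2 S c hcb.1
  have h1 : α ≫ β = 𝟙 Y' := by
    obtain ⟨w, -, hw⟩ := hb'.2 Y' b' hb'.1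
    rw [hw (α ≫ β) (by simp only [Category.assoc, hβ, hα]), hw (𝟙 Y') (Category.id_comp _)]
  have h2 : β ≫ α = 𝟙 S := by
    obtain ⟨w, -, hw⟩ := hcb.2 S c hcb.1
    rw [hw (β ≫ α) (by simp only [Category.assoc, hα, hβ]), hw (𝟙 S) (Category.id_comp _)]
  haveI : IsIso α := ⟨β, h1, h2⟩
  have h3 : f' = α ≫ c' := by
    obtain ⟨w, -, hw⟩ := hb.2 Y' (b' ≫ f) (by rw [Scheme.IdealSheafData.comap_comp]; exact hb'.1)
    rw [hw f' hf', hw (α ≫ c') (by show (α ≫ c') ≫ b = b' ≫ f; rw [Category.assoc, hcc, ← Category.assoc, hα])]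
  rw [h3]
  infer_instance

end Groth.Agent.BlowCompLib
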